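import Groth.Agent.Fano.K373.CaseIIe

/-!
# Degenerate rational quintics with planar Gauss map do not occur

`caseII`: there is no smooth rational quintic in a hyperplane section of a smooth cubic threefold (`Dat`) whose Gauss map
`γ` spans a plane (`γ 3 = 0`, `γ 0, γ 1, γ 2` linearly independent).
-/

set_option autoImplicit false

namespace K373.CaseII

open MvPolynomial K713.BinFactor K496.BinAlg K496.QuintDat K373.CaseIIa K373.CaseIId K373.CaseIIe

section Eval

variable {k : Type*} [Field k] {n : ℕ} (τ : Fin n → Fin n → Fin n → k)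

/-- Evaluation of the trilinear form. -/
theorem tri_eval (Q : Fin 2 → k) (x y z : Fin n → MvPolynomial (Fin 2) k) :
    tri τ (cv fun a => eval Q (x a)) (cv fun a => eval Q (y a)) (cv fun a => eval Q (z a)) =
      C (eval Q (tri τ x y z)) := by
  simp only [tri, cv, map_sum, map_mul, eval_C]

theorem cv_eval_single (Q : Fin 2 → k) (b : Fin n) :
    (cv fun a => eval Q ((Pi.single b 1 : Fin n → MvPolynomial (Fin 2) k) a)) = Pi.single b 1 := by
  ext1 a
  by_cases h : a = b
  · subst h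
    simp [cv]
  · simp [cv, Pi.single_eq_of_ne h]

end Eval

variable {k : Type*} [Field k] [IsAlgClosed k] [CharZero k]

variable {τ : Fin 4 → Fin 4 → Fin 4 → k} {γ : Fin 4 → MvPolynomial (Fin 2) k}

omit [IsAlgClosed k] in
/-- A combination of `Y` and the last basis vector is a curve of singular points. -/
theorem final (symm₁ : ∀ a b d, τ a b d = τ b a d) (hs : NoSing τ) {y : Fin 3 → MvPolynomial (Fin 2) k}
    (hy : ∀ P : Fin 2 → k, P ≠ 0 → ∃ a, eval P (y a) ≠ 0) (hy4 : ∀ a, (y a).IsHomogeneous 4)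
    {s t g h : MvPolynomial (Fin 2) k} {d : ℕ} (hsd : s.IsHomogeneous d) (htd : t.IsHomogeneous (d + 4))
    (hst : ∀ P : Fin 2 → k, P ≠ 0 → eval P s = 0 → eval P t ≠ 0)
    (hβ : ∀ a, tri τ (Yv y) e3 (Pi.single a 1) = h * γ a)
    (hδ : ∀ a, tri τ (Yv y) (Yv y) (Pi.single a 1) = g * γ a)
    (hee : ∀ a, tri τ e3 e3 (Pi.single a 1) = 0) (hrel : s * g = t * h) : False := by
  have h2 : (2 : k) ≠ 0 := by exact_mod_cast (by norm_num : (2 : ℕ) ≠ 0)
  refine hs (d + 4) ((2 * s) • Yv y + (-t) • e3) (by omega) (fun a => ?_) (fun P hP => ?_) (fun a => ?_)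
  · refine IsHomogeneous.add ?_ ?_
    · have h1 : (2 * s : MvPolynomial (Fin 2) k).IsHomogeneous d := by
        have := (isHomogeneous_C (Fin 2) (2 : k)).mul hsd
        rwa [zero_add, map_ofNat] at this
      exact h1.mul (hom_Yv hy4 a)
    · have := (htd.neg).mul (hom_single (k := k) 3 a)
      rwa [add_zero] at this
  · by_cases hsP : eval P s = 0
    · refine ⟨3, ?_⟩
      have h1 : ((2 * s) • Yv y + (-t) • e3 : Fin 4 → MvPolynomial (Fin 2) k) 3 = -t := by
        change (2 * s) * 0 + (-t) * (Pi.single 3 1 : Fin 4 → MvPolynomial (Fin 2) k) 3 = -t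
        rw [Pi.single_eq_same]
        ring
      rw [h1, map_neg]
      exact neg_ne_zero.2 (hst P hP hsP)
    · obtain ⟨a, ha⟩ := hy P hP
      refine ⟨a.castSucc, ?_⟩
      have h1 : ((2 * s) • Yv y + (-t) • e3 : Fin 4 → MvPolynomial (Fin 2) k) a.castSucc = 2 * s * y a := by
        have h3 : (Yv y) a.castSucc = y a := by
          fin_cases a <;> rfl
        change (2 * s) * (Yv y) a.castSucc + (-t) * (Pi.single 3 1 : Fin 4 → MvPolynomial (Fin 2) k) a.castSucc = _
        rw [h3, Pi.single_eq_of_ne (by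
          intro h
          have := congrArg Fin.val h
          fin_cases a <;> simp at this)]
        ring
      rw [h1, map_mul, map_mul, map_ofNat]
      exact mul_ne_zero (mul_ne_zero h2 hsP) ha
  · rw [tri_expand symm₁, hβ, hδ, hee]
    linear_combination (4 * s * γ a) * hrel

theorem caseII {τ : Fin 4 → Fin 4 → Fin 4 → k} {c γ : Fin 4 → MvPolynomial (Fin 2) k} {u : MvPolynomial (Fin 2) k}
    {m : ℕ} (D : Dat τ c γ u m) (h3 : γ 3 = 0) (hli : LinearIndependent k ![γ 0, γ 1, γ 2]) : False := by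
  obtain ⟨rfl, μ, hμ, hμ0, hc, hy, hy4⟩ := exists_mu D h3 hli
  have hA1 := A1_eq_zero D h3 hli hμ hμ0 hc hy hy4
  have hA2 := A2_eq_zero D h3 hli hμ hμ0 hc hy hy4
  have hee := e3e3 D h3 hli hμ hμ0 hc hy hy4
  -- `δ` is a multiple of `γ`
  obtain ⟨g, hg, hδ⟩ : ∃ g : MvPolynomial (Fin 2) k, g.IsHomogeneous 5 ∧
      ∀ a, tri τ (Yv (cr γ)) (Yv (cr γ)) (Pi.single a 1) = g * γ a := by
    rcases exists_mul_gamma D h3 hμ0 hc hy hy4 (x := Yv (cr γ)) (z := Yv (cr γ)) (p := 4) (q := 4) (n := 5)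
      (hom_Yv hy4) (hom_Yv hy4) rfl hA1 (orth_delta D h3 hli hμ hμ0 hc hy hy4) with h | ⟨g, hg, -, h⟩
    · exact ⟨0, isHomogeneous_zero _ _ _, fun a => by rw [h a, zero_mul]⟩
    · exact ⟨g, hg, h⟩
  rcases exists_mul_gamma D h3 hμ0 hc hy hy4 (x := Yv (cr γ)) (z := e3) (p := 4) (q := 0) (n := 1)
    (hom_Yv hy4) (hom_single 3) rfl hA2 (orth_beta D h3 hli hμ hμ0 hc hy hy4) with hβ | ⟨h, hh, hh0, hβ⟩
  · -- a cone
    have hτ : ∀ a b, τ b 3 a = 0 := by
      intro a b
      have h1 := hβ a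
      have h2 : tri τ (Yv (cr γ)) e3 (Pi.single a 1) = _ := tri_Yv₁ (cr γ) 3 a
      rw [h2] at h1
      have h4 := li_cr D hc (x := ![τ 0 3 a, τ 1 3 a, τ 2 3 a]) h1
      fin_cases b
      · exact h4 0
      · exact h4 1
      · exact h4 2
      · change τ 3 3 a = 0
        rw [D.symm₂, D.symm₁]
        exact tau_b33 D h3 hli hμ hμ0 hc hy hy4 a
    have hz : ∀ (x : Fin 4 → MvPolynomial (Fin 2) k) (a : Fin 4), tri τ x e3 (Pi.single a 1) = 0 := by
      intro x a
      rw [tri_swap₁ _ _ _ D.symm₁, tri_swap₂ _ _ _ D.symm₂, tri_eq_sum₃]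
      refine Finset.sum_eq_zero fun b _ => ?_
      have h5 : tri τ e3 (Pi.single a 1) (Pi.single b 1) = C (τ 3 a b) := tri_single τ 3 a b
      rw [h5, D.symm₁ 3 a b, hτ, map_zero, mul_zero]
    obtain ⟨Q, hQ, hQg⟩ := exists_zero hg
    refine D.noSing 1 ((X 0 : MvPolynomial (Fin 2) k) • (cv fun a => eval Q (Yv (cr γ) a)) +
      (X 1 : MvPolynomial (Fin 2) k) • e3) le_rfl (fun a => ?_) (fun P hP => ?_) (fun a => ?_)
    · refine IsHomogeneous.add ?_ ?_
      · have := (isHomogeneous_X k (0 : Fin 2)).mul (isHomogeneous_cv (fun a => eval Q (Yv (cr γ) a)) a)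
        rwa [add_zero] at this
      · have := (isHomogeneous_X k (1 : Fin 2)).mul (hom_single (k := k) 3 a)
        rwa [add_zero] at this
    · by_cases hP1 : P 1 = 0
      · have hP0 : P 0 ≠ 0 := by
          intro h
          apply hP
          ext i
          fin_cases i
          exacts [h, hP1]
        obtain ⟨a, ha⟩ := hy Q hQ
        refine ⟨a.castSucc, ?_⟩
        have h4 : (Yv (cr γ)) a.castSucc = cr γ a := by
          fin_cases a <;> rfl
        have h5 : eval P (((X 0 : MvPolynomial (Fin 2) k) • (cv fun a => eval Q (Yv (cr γ) a)) +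
            (X 1 : MvPolynomial (Fin 2) k) • e3 : Fin 4 → MvPolynomial (Fin 2) k) a.castSucc) =
            P 0 * eval Q (cr γ a) + P 1 * eval P ((e3 : Fin 4 → MvPolynomial (Fin 2) k) a.castSucc) := by
          simp only [Pi.add_apply, Pi.smul_apply, smul_eq_mul, map_add, map_mul, eval_X, cv, eval_C, h4]
        rw [h5, hP1, zero_mul, add_zero]
        exact mul_ne_zero hP0 ha
      · refine ⟨3, ?_⟩
        have h5 : eval P (((X 0 : MvPolynomial (Fin 2) k) • (cv fun a => eval Q (Yv (cr γ) a)) +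
            (X 1 : MvPolynomial (Fin 2) k) • e3 : Fin 4 → MvPolynomial (Fin 2) k) 3) = P 1 := by
          simp only [Pi.add_apply, Pi.smul_apply, smul_eq_mul, map_add, map_mul, eval_X, cv, eval_C, e3]
          simp [Yv]
        rw [h5]
        exact hP1
    · rw [tri_expand D.symm₁, hz, hee]
      have h4 := tri_eval τ Q (Yv (cr γ)) (Yv (cr γ)) (Pi.single a 1)
      rw [cv_eval_single, hδ, map_mul, hQg, zero_mul, map_zero] at h4
      rw [h4]
      ring
  · -- the general case
    obtain ⟨Q, hQ, hQh⟩ := exists_zero (n := 0) hh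
    obtain ⟨κ', hκ', hhQ⟩ := exists_lin_mul (n := 0) hh hQ hQh
    obtain ⟨κ, rfl⟩ := eq_C_of_isHomogeneous_zero hκ'
    have hκ : κ ≠ 0 := by
      rintro rfl
      apply hh0
      rw [hhQ, map_zero, mul_zero]
    by_cases hQg : eval Q g = 0
    · obtain ⟨g4, hg4, hgQ⟩ := exists_lin_mul (n := 4) hg hQ hQg
      have hCC : (C κ⁻¹ : MvPolynomial (Fin 2) k) * C κ = 1 := by
        rw [← map_mul, inv_mul_cancel₀ hκ, map_one]
      refine final D.symm₁ D.noSing hy hy4 (s := 1) (t := C κ⁻¹ * g4) (d := 0) (isHomogeneous_one _ _) ?_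
        (fun P _ h1 => ?_) hβ hδ hee ?_
      · have := (isHomogeneous_C (Fin 2) κ⁻¹).mul hg4
        exact this
      · rw [map_one] at h1
        exact absurd h1 one_ne_zero
      · rw [hgQ, hhQ]
        linear_combination (-(g4 * lin Q)) * hCC
    · refine final D.symm₁ D.noSing hy hy4 (s := h) (t := g) (d := 1) hh hg (fun P hP h1 h2 => ?_) hβ hδ hee
        (mul_comm h g)
      rw [hhQ, map_mul, eval_C] at h1
      have h4 := (mul_eq_zero.1 h1).resolve_right hκ
      obtain ⟨t, ht⟩ := exists_smul_of_eval_lin hQ h4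
      have ht0 : t ≠ 0 := by
        rintro rfl
        apply hP
        rw [ht, zero_smul]
      rw [ht, eval_smul_of_isHomogeneous hg] at h2
      exact hQg ((mul_eq_zero.1 h2).resolve_left (pow_ne_zero _ ht0))

end K373.CaseII
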