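import Groth.Agent.Fano.K496.QuintDat

/-!
# Degenerate rational quintics with planar Gauss map: first reduction
-/

set_option autoImplicit false

namespace K373.CaseIIa

open MvPolynomial K713.BinFactor K496.BinAlg K496.QuintDat

variable {k : Type*} [Field k]

section Tri

variable {n : ℕ} {τ : Fin n → Fin n → Fin n → k}

theorem tri_expand (h : ∀ a b d, τ a b d = τ b a d) (a b : MvPolynomial (Fin 2) k)
    (x y z : Fin n → MvPolynomial (Fin 2) k) :
    tri τ (a • x + b • y) (a • x + b • y) z =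
      a ^ 2 * tri τ x x z + 2 * a * b * tri τ x y z + b ^ 2 * tri τ y y z := by
  rw [tri_add₁, tri_add₂, tri_add₂, tri_smul₁, tri_smul₁, tri_smul₁, tri_smul₁, tri_smul₂, tri_smul₂, tri_smul₂,
    tri_smul₂, tri_swap₁ y x z h]
  ring

end Tri

/-- The cross product of the derivatives of the first three coordinates. -/
noncomputable def cr (γ : Fin 4 → MvPolynomial (Fin 2) k) : Fin 3 → MvPolynomial (Fin 2) k :=
  ![pderiv 0 (γ 1) * pderiv 1 (γ 2) - pderiv 0 (γ 2) * pderiv 1 (γ 1),
    pderiv 0 (γ 2) * pderiv 1 (γ 0) - pderiv 0 (γ 0) * pderiv 1 (γ 2),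
    pderiv 0 (γ 0) * pderiv 1 (γ 1) - pderiv 0 (γ 1) * pderiv 1 (γ 0)]

variable [IsAlgClosed k] [CharZero k] {τ : Fin 4 → Fin 4 → Fin 4 → k} {c γ : Fin 4 → MvPolynomial (Fin 2) k}
  {u : MvPolynomial (Fin 2) k} {m : ℕ}

omit [IsAlgClosed k] [CharZero k] in
theorem tri_cc (D : Dat τ c γ u m) (z : Fin 4 → MvPolynomial (Fin 2) k) :
    tri τ c c z = u * ∑ d, z d * γ d := by
  rw [tri_eq_sum₃, Finset.mul_sum]
  refine Finset.sum_congr rfl fun d _ => ?_
  rw [D.eqn d]
  ring

omit [IsAlgClosed k] in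
theorem orth (D : Dat τ c γ u m) (h3 : γ 3 = 0) (i : Fin 2) :
    c 0 * pderiv i (γ 0) + c 1 * pderiv i (γ 1) + c 2 * pderiv i (γ 2) = 0 := by
  have h1 : ∑ d, c d * γ d = 0 := by
    have := tri_cc D c
    rw [D.van] at this
    exact (mul_eq_zero.1 this.symm).resolve_left D.u0
  have h2 : ∑ d, pderiv i (c d) * γ d = 0 := by
    have h4 := pderiv_tri τ c c c i
    rw [D.van, map_zero, tri_swap₁ (dd i c) c c D.symm₁, tri_swap₂ c (dd i c) c D.symm₂] at h4
    have h5 : (3 : MvPolynomial (Fin 2) k) * tri τ c c (dd i c) = 0 := by linear_combination -h4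
    have h6 : (3 : MvPolynomial (Fin 2) k) ≠ 0 := by
      have : ((3 : ℕ) : MvPolynomial (Fin 2) k) ≠ 0 := by exact_mod_cast (by norm_num : (3 : ℕ) ≠ 0)
      exact_mod_cast this
    have h7 := (mul_eq_zero.1 h5).resolve_left h6
    rw [tri_cc D] at h7
    exact (mul_eq_zero.1 h7).resolve_left D.u0
  have h4 := congrArg (pderiv i) h1
  rw [map_sum, map_zero] at h4
  simp only [pderiv_mul, Fin.sum_univ_four, h3, map_zero, mul_zero, add_zero] at h4 h2
  linear_combination h4 - h2

omit [IsAlgClosed k] in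
theorem orth' (D : Dat τ c γ u m) (h3 : γ 3 = 0) :
    c 0 * γ 0 + c 1 * γ 1 + c 2 * γ 2 = 0 := by
  have h1 : ∑ d, c d * γ d = 0 := by
    have := tri_cc D c
    rw [D.van] at this
    exact (mul_eq_zero.1 this.symm).resolve_left D.u0
  simp only [Fin.sum_univ_four, h3, mul_zero, add_zero] at h1
  exact h1

theorem cr_ne_zero (hli : LinearIndependent k ![γ 0, γ 1, γ 2]) {m₀ : ℕ}
    (hom : ∀ a, (γ a).IsHomogeneous (m₀ + 1)) (a : Fin 3) : cr γ a ≠ 0 := by
  have key : ∀ x y z : k, C x * γ 0 + C y * γ 1 + C z * γ 2 = 0 → x = 0 ∧ y = 0 ∧ z = 0 := by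
    intro x y z h
    have h1 := Fintype.linearIndependent_iff.1 hli ![x, y, z] (by
      simp only [Fin.sum_univ_three, smul_eq_C_mul]
      exact h)
    exact ⟨h1 0, h1 1, h1 2⟩
  intro h
  fin_cases a
  · obtain ⟨x, y, hxy, h1⟩ := dep_of_wronskian (hom 1) (hom 2) (by
      simp only [cr] at h
      have h' : pderiv 0 (γ 1) * pderiv 1 (γ 2) - pderiv 0 (γ 2) * pderiv 1 (γ 1) = 0 := h
      linear_combination h')
    obtain ⟨-, h3, h4⟩ := key 0 x y (by rw [map_zero]; linear_combination h1)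
    rcases hxy with h5 | h5
    · exact h5 h3
    · exact h5 h4
  · obtain ⟨x, y, hxy, h1⟩ := dep_of_wronskian (hom 2) (hom 0) (by
      have h' : pderiv 0 (γ 2) * pderiv 1 (γ 0) - pderiv 0 (γ 0) * pderiv 1 (γ 2) = 0 := h
      linear_combination h')
    obtain ⟨h3, -, h4⟩ := key y 0 x (by rw [map_zero]; linear_combination h1)
    rcases hxy with h5 | h5
    · exact h5 h4
    · exact h5 h3
  · obtain ⟨x, y, hxy, h1⟩ := dep_of_wronskian (hom 0) (hom 1) (by
      have h' : pderiv 0 (γ 0) * pderiv 1 (γ 1) - pderiv 0 (γ 1) * pderiv 1 (γ 0) = 0 := h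
      linear_combination h')
    obtain ⟨h3, h4, -⟩ := key x y 0 (by rw [map_zero]; linear_combination h1)
    rcases hxy with h5 | h5
    · exact h5 h3
    · exact h5 h4

omit [IsAlgClosed k] in
theorem cross (D : Dat τ c γ u m) (h3 : γ 3 = 0) (i j : Fin 3) :
    ![c 0, c 1, c 2] i * cr γ j = ![c 0, c 1, c 2] j * cr γ i := by
  have o0 := orth D h3 0
  have o1 := orth D h3 1
  have e01 : c 0 * cr γ 1 = c 1 * cr γ 0 := by
    simp only [cr, Matrix.cons_val_one, Matrix.cons_val_zero]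
    linear_combination (pderiv 0 (γ 2)) * o1 - (pderiv 1 (γ 2)) * o0
  have e12 : c 1 * cr γ 2 = c 2 * cr γ 1 := by
    simp only [cr, Matrix.cons_val_one, Matrix.cons_val_two, Matrix.head_cons, Matrix.tail_cons,
      Matrix.cons_val_zero, Matrix.cons_val]
    linear_combination (pderiv 0 (γ 0)) * o1 - (pderiv 1 (γ 0)) * o0
  have e02 : c 0 * cr γ 2 = c 2 * cr γ 0 := by
    simp only [cr, Matrix.cons_val_one, Matrix.cons_val_two, Matrix.head_cons, Matrix.tail_cons,
      Matrix.cons_val_zero, Matrix.cons_val]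
    linear_combination (pderiv 1 (γ 1)) * o0 - (pderiv 0 (γ 1)) * o1
  fin_cases i <;> fin_cases j
  · rfl
  · exact e01
  · exact e02
  · exact e01.symm
  · rfl
  · exact e12
  · exact e02.symm
  · exact e12.symm
  · rfl

theorem eq_C_mul_pow_zero {A : MvPolynomial (Fin 2) k} (h : A.IsHomogeneous 0) : ∃ κ : k, A = C κ :=
  eq_C_of_isHomogeneous_zero h

theorem exists_mu (D : Dat τ c γ u m) (h3 : γ 3 = 0) (hli : LinearIndependent k ![γ 0, γ 1, γ 2]) :
    m = 3 ∧ ∃ μ : MvPolynomial (Fin 2) k, μ.IsHomogeneous 1 ∧ μ ≠ 0 ∧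
      (c 0 = μ * cr γ 0 ∧ c 1 = μ * cr γ 1 ∧ c 2 = μ * cr γ 2) ∧
      (∀ P : Fin 2 → k, P ≠ 0 → ∃ a, eval P (cr γ a) ≠ 0) ∧ ∀ a, (cr γ a).IsHomogeneous 4 := by
  -- `m` is positive
  obtain ⟨m₀, rfl⟩ : ∃ m₀, m = m₀ + 1 := by
    rcases m with _ | m₀
    · exfalso
      obtain ⟨x, hx⟩ := eq_C_of_isHomogeneous_zero (D.homγ 0)
      obtain ⟨y, hy⟩ := eq_C_of_isHomogeneous_zero (D.homγ 1)
      have h1 := Fintype.linearIndependent_iff.1 hli ![y, -x, 0] (by
        simp only [Fin.sum_univ_three, smul_eq_C_mul]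
        change C y * γ 0 + C (-x) * γ 1 + C 0 * γ 2 = 0
        rw [hx, hy, map_neg, map_zero]
        ring)
      have h2 : -x = 0 := h1 1
      have h3' : x = 0 := neg_eq_zero.1 h2
      refine hli.ne_zero 0 ?_
      change γ 0 = 0
      rw [hx, h3', map_zero]
    · exact ⟨m₀, rfl⟩
  have hne := cr_ne_zero hli D.homγ
  have hd : ∀ i j, (pderiv i (γ j)).IsHomogeneous m₀ := fun i j => isHomogeneous_pderiv (D.homγ j) i
  have hcr : ∀ a, (cr γ a).IsHomogeneous (m₀ + m₀) := by
    intro a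
    fin_cases a
    · exact ((hd 0 1).mul (hd 1 2)).sub ((hd 0 2).mul (hd 1 1))
    · exact ((hd 0 2).mul (hd 1 0)).sub ((hd 0 0).mul (hd 1 2))
    · exact ((hd 0 0).mul (hd 1 1)).sub ((hd 0 1).mul (hd 1 0))
  have hm := D.hm
  have hcross := cross D h3
  by_cases hz : ∀ P : Fin 2 → k, P ≠ 0 → ∃ i, eval P (![c 0, c 1, c 2] i) ≠ 0
  · exfalso
    rcases exists_mul_of_prim (D := ![c 0, c 1, c 2]) (v := cr γ) (n := 5) (n' := m₀ + m₀)
      (fun i => by fin_cases i <;> exact D.hom _) hcr (fun i j => by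
        have := hcross j i
        rw [mul_comm, this, mul_comm]) hz with h | ⟨e, g, he, -⟩
    · exact hne 0 (h 0)
    · omega
  · push Not at hz
    obtain ⟨P, hP, hPc⟩ := hz
    have h0 : eval P (c 0) = 0 := hPc 0
    have h1 : eval P (c 1) = 0 := hPc 1
    have h2 : eval P (c 2) = 0 := hPc 2
    obtain ⟨D0, hD0, hc0⟩ := exists_lin_mul (D.hom 0) hP h0
    obtain ⟨D1, hD1, hc1⟩ := exists_lin_mul (D.hom 1) hP h1
    obtain ⟨D2, hD2, hc2⟩ := exists_lin_mul (D.hom 2) hP h2
    have hlin := lin_ne_zero hP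
    have hDz : ∀ Q : Fin 2 → k, Q ≠ 0 → ∃ i, eval Q (![D0, D1, D2] i) ≠ 0 := by
      intro Q hQ
      by_contra hcon
      push Not at hcon
      have g0 : eval Q D0 = 0 := hcon 0
      have g1 : eval Q D1 = 0 := hcon 1
      have g2 : eval Q D2 = 0 := hcon 2
      by_cases hPQ : P 0 * Q 1 - P 1 * Q 0 = 0
      · -- `Q` is proportional to `P`
        obtain ⟨t, ht⟩ := exists_smul_of_eval_lin hQ (x := P) (by rw [eval_lin]; linear_combination hPQ)
        have ht0 : t ≠ 0 := by
          rintro rfl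
          apply hP
          rw [ht, zero_smul]
        have hP0 : ∀ {A : MvPolynomial (Fin 2) k}, A.IsHomogeneous 4 → eval Q A = 0 → eval P A = 0 := by
          intro A hA h
          rw [ht, eval_smul_of_isHomogeneous hA, h, mul_zero]
        obtain ⟨E0, -, hE0⟩ := exists_lin_mul hD0 hP (hP0 hD0 g0)
        obtain ⟨E1, -, hE1⟩ := exists_lin_mul hD1 hP (hP0 hD1 g1)
        obtain ⟨E2, -, hE2⟩ := exists_lin_mul hD2 hP (hP0 hD2 g2)
        refine D.emb.tan P hP (c 3) ![0, 0, 0, 1] fun a => ?_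
        fin_cases a
        · refine ⟨E0, ?_⟩
          change c 0 - c 3 * C 0 = _
          rw [hc0, hE0, map_zero]; ring
        · refine ⟨E1, ?_⟩
          change c 1 - c 3 * C 0 = _
          rw [hc1, hE1, map_zero]; ring
        · refine ⟨E2, ?_⟩
          change c 2 - c 3 * C 0 = _
          rw [hc2, hE2, map_zero]; ring
        · refine ⟨0, ?_⟩
          change c 3 - c 3 * C 1 = _
          rw [map_one]; ring
      · -- two different zeros of `c'`
        have hP3 : eval P (c 3) ≠ 0 := by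
          intro h
          obtain ⟨a, ha⟩ := D.emb.nz hP
          fin_cases a
          exacts [ha h0, ha h1, ha h2, ha h]
        have q0 : eval Q (c 0) = 0 := by rw [hc0, map_mul, g0, mul_zero]
        have q1 : eval Q (c 1) = 0 := by rw [hc1, map_mul, g1, mul_zero]
        have q2 : eval Q (c 2) = 0 := by rw [hc2, map_mul, g2, mul_zero]
        have h4 := D.emb.pts P Q hPQ (eval Q (c 3)) (- eval P (c 3)) (by
          intro a
          fin_cases a
          · change eval Q (c 3) * eval P (c 0) + - eval P (c 3) * eval Q (c 0) = 0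
            rw [h0, q0]; ring
          · change eval Q (c 3) * eval P (c 1) + - eval P (c 3) * eval Q (c 1) = 0
            rw [h1, q1]; ring
          · change eval Q (c 3) * eval P (c 2) + - eval P (c 3) * eval Q (c 2) = 0
            rw [h2, q2]; ring
          · change eval Q (c 3) * eval P (c 3) + - eval P (c 3) * eval Q (c 3) = 0
            ring)
        exact hP3 (neg_eq_zero.1 h4.2)
    rcases exists_mul_of_prim (D := ![D0, D1, D2]) (v := cr γ) (n := 4) (n' := m₀ + m₀)
      (fun i => by fin_cases i <;> assumption) hcr (fun i j => by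
        apply mul_left_cancel₀ hlin
        have := hcross j i
        have e : ∀ i : Fin 3, ![c 0, c 1, c 2] i = lin P * ![D0, D1, D2] i := by
          intro i
          fin_cases i
          exacts [hc0, hc1, hc2]
        rw [e, e] at this
        linear_combination this) hDz with h | ⟨e, g, he, hg, hg0, hgv⟩
    · exact absurd (h 0) (hne 0)
    · have he0 : e = 0 := by omega
      have hm2 : m₀ = 2 := by omega
      subst he0 hm2
      obtain ⟨κ, rfl⟩ := eq_C_of_isHomogeneous_zero hg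
      have hκ : κ ≠ 0 := by
        rintro rfl
        exact hg0 (map_zero _)
      have hCC : (C κ⁻¹ : MvPolynomial (Fin 2) k) * C κ = 1 := by
        rw [← map_mul, inv_mul_cancel₀ hκ, map_one]
      have v0 : cr γ 0 = C κ * D0 := hgv 0
      have v1 : cr γ 1 = C κ * D1 := hgv 1
      have v2 : cr γ 2 = C κ * D2 := hgv 2
      refine ⟨rfl, C κ⁻¹ * lin P, ?_, ?_, ⟨?_, ?_, ?_⟩, ?_, hcr⟩
      · have := (isHomogeneous_C (Fin 2) κ⁻¹).mul (isHomogeneous_lin P)
        rwa [zero_add] at this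
      · exact mul_ne_zero (by simpa using hκ) hlin
      · rw [hc0, v0]; linear_combination (-(lin P * D0)) * hCC
      · rw [hc1, v1]; linear_combination (-(lin P * D1)) * hCC
      · rw [hc2, v2]; linear_combination (-(lin P * D2)) * hCC
      · intro Q hQ
        obtain ⟨i, hi⟩ := hDz Q hQ
        refine ⟨i, ?_⟩
        rw [hgv i, map_mul, eval_C]
        exact mul_ne_zero hκ hi

end K373.CaseIIa
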