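import Groth.Agent.Fano.K373.CaseIIa

/-!
# Cubes in a three dimensional space of binary cubic forms
-/

set_option autoImplicit false

namespace K373.CaseIIb

open MvPolynomial K713.BinFactor K496.BinAlg K496.QuintDat K373.CaseIIa

variable {k : Type*} [Field k]

/-- The binary cubic form with given coefficients. -/
noncomputable def cub (v : Fin 4 → k) : MvPolynomial (Fin 2) k :=
  C (v 0) * X 0 ^ 3 + C (v 1) * (X 0 ^ 2 * X 1) + C (v 2) * (X 0 * X 1 ^ 2) + C (v 3) * X 1 ^ 3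

theorem cub_add (v w : Fin 4 → k) : cub (v + w) = cub v + cub w := by
  simp only [cub, Pi.add_apply, map_add]
  ring

theorem cub_smul (x : k) (v : Fin 4 → k) : cub (x • v) = C x * cub v := by
  simp only [cub, Pi.smul_apply, smul_eq_mul, map_mul]
  ring

theorem cub_zero : cub (0 : Fin 4 → k) = 0 := by simp [cub]

/-- The coefficients of `lin Q ^ 3`. -/
def cube (Q : Fin 2 → k) : Fin 4 → k := ![Q 1 ^ 3, -3 * (Q 1 ^ 2 * Q 0), 3 * (Q 1 * Q 0 ^ 2), -Q 0 ^ 3]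

theorem cub_cube (Q : Fin 2 → k) : cub (cube Q) = lin Q ^ 3 := by
  simp only [cub, cube, lin, Matrix.cons_val]
  simp only [map_mul, map_pow, map_neg, map_ofNat]
  ring

/-- The coefficients of `lin Q ^ 2 * X 0`. -/
def sq0 (Q : Fin 2 → k) : Fin 4 → k := ![Q 1 ^ 2, -2 * (Q 1 * Q 0), Q 0 ^ 2, 0]

theorem cub_sq0 (Q : Fin 2 → k) : cub (sq0 Q) = lin Q ^ 2 * X 0 := by
  simp only [cub, sq0, lin, Matrix.cons_val]
  simp only [map_mul, map_pow, map_neg, map_ofNat, map_zero]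
  ring

/-- The coefficients of `lin Q ^ 2 * X 1`. -/
def sq1 (Q : Fin 2 → k) : Fin 4 → k := ![0, Q 1 ^ 2, -2 * (Q 1 * Q 0), Q 0 ^ 2]

theorem cub_sq1 (Q : Fin 2 → k) : cub (sq1 Q) = lin Q ^ 2 * X 1 := by
  simp only [cub, sq1, lin, Matrix.cons_val]
  simp only [map_mul, map_pow, map_neg, map_ofNat, map_zero]
  ring

theorem eval_pderiv_lin_sq (Q : Fin 2 → k) (F : MvPolynomial (Fin 2) k) (i : Fin 2) :
    eval Q (pderiv i (lin Q ^ 2 * F)) = 0 := by
  have : lin Q ^ 2 * F = lin Q * (lin Q * F) := by ring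
  rw [this, pderiv_mul, pderiv_mul]
  simp only [map_add, map_mul, eval_lin_self]
  ring

/-- The dual cubic form. -/
noncomputable def dualForm (f : (Fin 4 → k) →ₗ[k] k) : MvPolynomial (Fin 2) k :=
  C (f (Pi.single 0 1)) * X 1 ^ 3 - C (3 * f (Pi.single 1 1)) * (X 1 ^ 2 * X 0) +
    C (3 * f (Pi.single 2 1)) * (X 1 * X 0 ^ 2) - C (f (Pi.single 3 1)) * X 0 ^ 3

theorem apply_eq (f : (Fin 4 → k) →ₗ[k] k) (v : Fin 4 → k) : f v = v 0 * f (Pi.single 0 1) +
    v 1 * f (Pi.single 1 1) + v 2 * f (Pi.single 2 1) + v 3 * f (Pi.single 3 1) := by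
  have h : v = v 0 • (Pi.single 0 1 : Fin 4 → k) + v 1 • Pi.single 1 1 + v 2 • Pi.single 2 1 +
      v 3 • Pi.single 3 1 := by
    ext i
    fin_cases i <;> simp [Pi.single_apply]
  conv_lhs => rw [h]
  simp only [map_add, map_smul, smul_eq_mul]

theorem eval_dualForm (f : (Fin 4 → k) →ₗ[k] k) (Q : Fin 2 → k) : eval Q (dualForm f) = f (cube Q) := by
  rw [apply_eq f (cube Q)]
  simp only [dualForm, cube, Matrix.cons_val]
  simp only [map_add, map_sub, map_mul, map_pow, eval_C, eval_X]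
  ring

theorem isHomogeneous_dualForm (f : (Fin 4 → k) →ₗ[k] k) : (dualForm f).IsHomogeneous 3 := by
  have h1 : ∀ x : k, ∀ {A : MvPolynomial (Fin 2) k}, A.IsHomogeneous 3 → (C x * A).IsHomogeneous 3 :=
    fun x A hA => by simpa using (isHomogeneous_C (Fin 2) x).mul hA
  refine (((h1 _ ?_).sub (h1 _ ?_)).add (h1 _ ?_)).sub (h1 _ ?_)
  · exact isHomogeneous_X_pow (R := k) 1 3
  · exact (isHomogeneous_X_pow (R := k) 1 2).mul (isHomogeneous_X k 0)
  · exact (isHomogeneous_X k 1).mul (isHomogeneous_X_pow (R := k) 0 2)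
  · exact isHomogeneous_X_pow (R := k) 0 3

theorem eval_pderiv_dualForm_one (f : (Fin 4 → k) →ₗ[k] k) (Q : Fin 2 → k) :
    eval Q (pderiv 1 (dualForm f)) = 3 * f (sq0 Q) := by
  rw [apply_eq f (sq0 Q)]
  simp only [dualForm, sq0, Matrix.cons_val]
  simp only [map_add, map_sub, pderiv_C_mul, pderiv_mul, pderiv_pow, pderiv_X, Pi.single_apply, smul_eq_C_mul]
  simp
  ring

theorem eval_pderiv_dualForm_zero (f : (Fin 4 → k) →ₗ[k] k) (Q : Fin 2 → k) :
    eval Q (pderiv 0 (dualForm f)) = -3 * f (sq1 Q) := by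
  rw [apply_eq f (sq1 Q)]
  simp only [dualForm, sq1, Matrix.cons_val]
  simp only [map_add, map_sub, pderiv_C_mul, pderiv_mul, pderiv_pow, pderiv_X, Pi.single_apply, smul_eq_C_mul]
  simp
  ring

variable [IsAlgClosed k]

theorem exists_cub {A : MvPolynomial (Fin 2) k} (hA : A.IsHomogeneous 3) : ∃ v : Fin 4 → k, A = cub v := by
  obtain ⟨P, hP, hPA⟩ := exists_zero hA
  obtain ⟨B, hB, rfl⟩ := exists_lin_mul hA hP hPA
  obtain ⟨Q, hQ, hQB⟩ := exists_zero hB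
  obtain ⟨E, hE, rfl⟩ := exists_lin_mul hB hQ hQB
  obtain ⟨R, hR, hRE⟩ := exists_zero hE
  obtain ⟨F, hF, rfl⟩ := exists_lin_mul hE hR hRE
  obtain ⟨κ, rfl⟩ := eq_C_of_isHomogeneous_zero hF
  refine ⟨![κ * (P 1 * Q 1 * R 1), κ * (-(P 0 * Q 1 * R 1) - P 1 * Q 0 * R 1 - P 1 * Q 1 * R 0),
    κ * (P 0 * Q 0 * R 1 + P 0 * Q 1 * R 0 + P 1 * Q 0 * R 0), κ * (-(P 0 * Q 0 * R 0))], ?_⟩
  simp only [cub, lin, Matrix.cons_val]
  simp only [map_mul, map_add, map_sub, map_neg]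
  ring

end K373.CaseIIb
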