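import Groth.Agent.Fano.K373.CaseIIb

/-!
# A net of binary cubic forms whose dual map is an immersion contains three cubes
-/

set_option autoImplicit false

namespace K373.CaseIIc

open MvPolynomial K713.BinFactor K496.BinAlg K496.QuintDat K373.CaseIIa K373.CaseIIb

variable {k : Type*} [Field k]

/-- The cubic with given coefficients as a linear map. -/
noncomputable def cubLin : (Fin 4 → k) →ₗ[k] MvPolynomial (Fin 2) k where
  toFun := cub
  map_add' := cub_add
  map_smul' x v := by rw [cub_smul, RingHom.id_apply, smul_eq_C_mul]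

variable [IsAlgClosed k] [CharZero k]

theorem exists_functional {γ : Fin 4 → MvPolynomial (Fin 2) k} (hom : ∀ a, (γ a).IsHomogeneous 3)
    (hli : LinearIndependent k ![γ 0, γ 1, γ 2]) :
    ∃ f : (Fin 4 → k) →ₗ[k] k, ∀ v, f v = 0 →
      ∃ β : Fin 3 → k, C (β 0) * γ 0 + C (β 1) * γ 1 + C (β 2) * γ 2 = cub v := by
  choose G hG using fun a => exists_cub (hom a)
  have hcomp : (cubLin : (Fin 4 → k) →ₗ[k] MvPolynomial (Fin 2) k) ∘ ![G 0, G 1, G 2] = ![γ 0, γ 1, γ 2] := by
    ext1 i
    fin_cases i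
    exacts [(hG 0).symm, (hG 1).symm, (hG 2).symm]
  have hg : LinearIndependent k ![G 0, G 1, G 2] := by
    refine LinearIndependent.of_comp (cubLin : (Fin 4 → k) →ₗ[k] MvPolynomial (Fin 2) k) ?_
    rw [hcomp]
    exact hli
  have hfin : Module.finrank k (Submodule.span k (Set.range ![G 0, G 1, G 2])) = 3 := by
    rw [finrank_span_eq_card hg, Fintype.card_fin]
  have hlt : Submodule.span k (Set.range ![G 0, G 1, G 2]) < ⊤ := by
    refine lt_top_iff_ne_top.2 fun h => ?_
    rw [h, finrank_top, Module.finrank_fin_fun] at hfin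
    omega
  obtain ⟨f, hf, hle⟩ := Submodule.exists_le_ker_of_lt_top _ hlt
  refine ⟨f, fun v hv => ?_⟩
  have hker : Submodule.span k (Set.range ![G 0, G 1, G 2]) = LinearMap.ker f := by
    refine Submodule.eq_of_le_of_finrank_le hle ?_
    rw [hfin]
    have h1 : LinearMap.ker f < ⊤ := by
      refine lt_top_iff_ne_top.2 fun h => hf ?_
      exact LinearMap.ker_eq_top.1 h
    have h2 := Submodule.finrank_lt h1.ne
    rw [Module.finrank_fin_fun] at h2
    omega
  have hmem : v ∈ Submodule.span k (Set.range ![G 0, G 1, G 2]) := by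
    rw [hker]
    exact hv
  obtain ⟨β, hβ⟩ := (Submodule.mem_span_range_iff_exists_fun k).1 hmem
  refine ⟨β, ?_⟩
  rw [← hβ, Fin.sum_univ_three, cub_add, cub_add, cub_smul, cub_smul, cub_smul]
  change _ = C (β 0) * cub (G 0) + C (β 1) * cub (G 1) + C (β 2) * cub (G 2)
  rw [← hG 0, ← hG 1, ← hG 2]

theorem exists_cubes {γ : Fin 4 → MvPolynomial (Fin 2) k} (hom : ∀ a, (γ a).IsHomogeneous 3)
    (hli : LinearIndependent k ![γ 0, γ 1, γ 2])
    (hy : ∀ P : Fin 2 → k, P ≠ 0 → ∃ a, eval P (cr γ a) ≠ 0) :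
    ∃ r : Fin 3 → Fin 2 → k, (∀ i, r i ≠ 0) ∧ (∀ i j, i ≠ j → r i 1 * r j 0 - r i 0 * r j 1 ≠ 0) ∧
      ∀ i, ∃ β : Fin 3 → k, C (β 0) * γ 0 + C (β 1) * γ 1 + C (β 2) * γ 2 = lin (r i) ^ 3 := by
  obtain ⟨f, hf⟩ := exists_functional hom hli
  obtain ⟨r, hr0, hr, hrz, -⟩ := exists_zeros (isHomogeneous_dualForm f) (by
    intro x hx _
    by_contra hcon
    push Not at hcon
    have h3 : (3 : k) ≠ 0 := by exact_mod_cast (by norm_num : (3 : ℕ) ≠ 0)
    have hs0 : f (sq0 x) = 0 := by
      have := hcon 1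
      rw [eval_pderiv_dualForm_one] at this
      exact (mul_eq_zero.1 this).resolve_left h3
    have hs1 : f (sq1 x) = 0 := by
      have := hcon 0
      rw [eval_pderiv_dualForm_zero] at this
      exact (mul_eq_zero.1 this).resolve_left (neg_ne_zero.2 h3)
    obtain ⟨α, hα⟩ := hf _ hs0
    obtain ⟨β, hβ⟩ := hf _ hs1
    rw [cub_sq0] at hα
    rw [cub_sq1] at hβ
    have key : ∀ (δ : Fin 3 → k) (F : MvPolynomial (Fin 2) k),
        C (δ 0) * γ 0 + C (δ 1) * γ 1 + C (δ 2) * γ 2 = lin x ^ 2 * F → ∀ i,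
        δ 0 * eval x (pderiv i (γ 0)) + δ 1 * eval x (pderiv i (γ 1)) + δ 2 * eval x (pderiv i (γ 2)) = 0 := by
      intro δ F h i
      have h1 := congrArg (fun A => eval x (pderiv i A)) h
      simp only [map_add, pderiv_C_mul, smul_eq_C_mul, map_mul, eval_C] at h1
      rw [h1]
      exact eval_pderiv_lin_sq x F i
    have a0 := key α _ hα 0
    have a1 := key α _ hα 1
    have b0 := key β _ hβ 0
    have b1 := key β _ hβ 1
    -- proportionality
    have ev0 : eval x (cr γ 0) = eval x (pderiv 0 (γ 1)) * eval x (pderiv 1 (γ 2)) -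
      eval x (pderiv 0 (γ 2)) * eval x (pderiv 1 (γ 1)) := by
      rw [← map_mul, ← map_mul, ← map_sub]; rfl
    have ev1 : eval x (cr γ 1) = eval x (pderiv 0 (γ 2)) * eval x (pderiv 1 (γ 0)) -
      eval x (pderiv 0 (γ 0)) * eval x (pderiv 1 (γ 2)) := by
      rw [← map_mul, ← map_mul, ← map_sub]; rfl
    have ev2 : eval x (cr γ 2) = eval x (pderiv 0 (γ 0)) * eval x (pderiv 1 (γ 1)) -
      eval x (pderiv 0 (γ 1)) * eval x (pderiv 1 (γ 0)) := by
      rw [← map_mul, ← map_mul, ← map_sub]; rfl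
    have prop : ∀ δ : Fin 3 → k,
        δ 0 * eval x (pderiv 0 (γ 0)) + δ 1 * eval x (pderiv 0 (γ 1)) + δ 2 * eval x (pderiv 0 (γ 2)) = 0 →
        δ 0 * eval x (pderiv 1 (γ 0)) + δ 1 * eval x (pderiv 1 (γ 1)) + δ 2 * eval x (pderiv 1 (γ 2)) = 0 →
        ∀ i j, eval x (cr γ i) * δ j = eval x (cr γ j) * δ i := by
      intro δ e0 e1
      have p01 : eval x (cr γ 0) * δ 1 = eval x (cr γ 1) * δ 0 := by
        rw [ev0, ev1]
        linear_combination (eval x (pderiv 1 (γ 2))) * e0 - (eval x (pderiv 0 (γ 2))) * e1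
      have p12 : eval x (cr γ 1) * δ 2 = eval x (cr γ 2) * δ 1 := by
        rw [ev1, ev2]
        linear_combination (eval x (pderiv 1 (γ 0))) * e0 - (eval x (pderiv 0 (γ 0))) * e1
      have p02 : eval x (cr γ 0) * δ 2 = eval x (cr γ 2) * δ 0 := by
        rw [ev0, ev2]
        linear_combination (eval x (pderiv 0 (γ 1))) * e1 - (eval x (pderiv 1 (γ 1))) * e0
      intro i j
      fin_cases i <;> fin_cases j
      · rfl
      · exact p01
      · exact p02
      · exact p01.symm
      · rfl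
      · exact p12
      · exact p02.symm
      · exact p12.symm
      · rfl
    obtain ⟨j, hj⟩ := hy x hx
    have pα := prop α a0 a1
    have pβ := prop β b0 b1
    have hlx := lin_ne_zero hx
    have hαβ : ∀ i, β j * α i - α j * β i = 0 := by
      intro i
      apply (mul_eq_zero.1 (?_ : eval x (cr γ j) * (β j * α i - α j * β i) = 0)).resolve_left hj
      linear_combination (β j) * pα j i - (α j) * pβ j i
    have hrel : lin x ^ 2 * (C (β j) * X 0 - C (α j) * X 1) = 0 := by
      have hC : ∀ i, (C (β j) * C (α i) - C (α j) * C (β i) : MvPolynomial (Fin 2) k) = 0 := by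
        intro i
        rw [← map_mul, ← map_mul, ← map_sub, hαβ i, map_zero]
      have h0 := hC 0
      have h1 := hC 1
      have h2 := hC 2
      linear_combination (C (α j)) * hβ - (C (β j)) * hα + γ 0 * h0 + γ 1 * h1 + γ 2 * h2
    have hrel2 := (mul_eq_zero.1 hrel).resolve_left (pow_ne_zero 2 hlx)
    have hαj : α j = 0 := by
      have := congrArg (eval ![0, 1]) hrel2
      simp only [map_sub, map_mul, eval_C, eval_X, map_zero] at this
      simpa using this
    have hα0 : ∀ i, α i = 0 := by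
      intro i
      have := pα j i
      rw [hαj, mul_zero] at this
      exact (mul_eq_zero.1 this).resolve_left hj
    rw [hα0 0, hα0 1, hα0 2, map_zero] at hα
    have hX : (lin x ^ 2 * X 0 : MvPolynomial (Fin 2) k) = 0 := by rw [← hα]; ring
    exact mul_ne_zero (pow_ne_zero 2 hlx) (X_ne_zero _) hX)
  refine ⟨r, hr0, hr, fun i => ?_⟩
  obtain ⟨β, hβ⟩ := hf (cube (r i)) (by rw [← eval_dualForm]; exact hrz i)
  exact ⟨β, by rw [hβ, cub_cube]⟩

end K373.CaseIIc
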