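import Groth.Agent.Fano.K373.CaseIIc

/-!
# Degenerate rational quintics with planar Gauss map: the singular point at infinity
-/

set_option autoImplicit false

namespace K373.CaseIId

open MvPolynomial K713.BinFactor K496.BinAlg K496.QuintDat K373.CaseIIa K373.CaseIIb K373.CaseIIc

variable {k : Type*} [Field k]

/-- The vector with vanishing last coordinate. -/
noncomputable def Yv (y : Fin 3 → MvPolynomial (Fin 2) k) : Fin 4 → MvPolynomial (Fin 2) k := ![y 0, y 1, y 2, 0]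

/-- The last basis vector. -/
noncomputable def e3 : Fin 4 → MvPolynomial (Fin 2) k := Pi.single 3 1

theorem Yv_add (y z : Fin 3 → MvPolynomial (Fin 2) k) : Yv (y + z) = Yv y + Yv z := by
  ext1 a
  fin_cases a
  · rfl
  · rfl
  · rfl
  · exact (add_zero 0).symm

theorem Yv_smul (r : MvPolynomial (Fin 2) k) (y : Fin 3 → MvPolynomial (Fin 2) k) : Yv (r • y) = r • Yv y := by
  ext1 a
  fin_cases a
  · rfl
  · rfl
  · rfl
  · exact (mul_zero r).symm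

theorem Yv_eq (y : Fin 3 → MvPolynomial (Fin 2) k) : Yv y = y 0 • (Pi.single 0 1 : Fin 4 → MvPolynomial (Fin 2) k) +
    y 1 • (Pi.single 1 1 : Fin 4 → MvPolynomial (Fin 2) k) + y 2 • (Pi.single 2 1 : Fin 4 → MvPolynomial (Fin 2) k) := by
  ext1 a
  fin_cases a <;> simp [Yv]

theorem hom_Yv {y : Fin 3 → MvPolynomial (Fin 2) k} {n : ℕ} (h : ∀ a, (y a).IsHomogeneous n) (a : Fin 4) :
    (Yv y a).IsHomogeneous n := by
  fin_cases a
  exacts [h 0, h 1, h 2, isHomogeneous_zero _ _ _]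

theorem hom_single (b a : Fin 4) : ((Pi.single b 1 : Fin 4 → MvPolynomial (Fin 2) k) a).IsHomogeneous 0 := by
  by_cases h : a = b
  · subst h
    rw [Pi.single_eq_same]
    exact isHomogeneous_one _ _
  · rw [Pi.single_eq_of_ne h]
    exact isHomogeneous_zero _ _ _

variable {τ : Fin 4 → Fin 4 → Fin 4 → k}

/-- The trilinear form at a vector with vanishing last coordinate, linear in this vector. -/
theorem tri_Yv₁ (y : Fin 3 → MvPolynomial (Fin 2) k) (b d : Fin 4) :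
    tri τ (Yv y) (Pi.single b 1) (Pi.single d 1) = y 0 * C (τ 0 b d) + y 1 * C (τ 1 b d) + y 2 * C (τ 2 b d) := by
  rw [Yv_eq, tri_add₁, tri_add₁, tri_smul₁, tri_smul₁, tri_smul₁, tri_single, tri_single, tri_single]

theorem tri_Yv₃ (y : Fin 3 → MvPolynomial (Fin 2) k) (x z : Fin 4 → MvPolynomial (Fin 2) k) :
    tri τ x z (Yv y) = y 0 * tri τ x z (Pi.single 0 1) + y 1 * tri τ x z (Pi.single 1 1) +
      y 2 * tri τ x z (Pi.single 2 1) := by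
  rw [Yv_eq, tri_add₃, tri_add₃, tri_smul₃, tri_smul₃, tri_smul₃]

/-- Constants. -/
theorem tri_const (x y z : Fin 4 → k) : ∃ κ : k, tri τ (cv x) (cv y) (cv z) = C κ := by
  refine ⟨∑ a, ∑ b, ∑ d, τ a b d * (x a * y b * z d), ?_⟩
  simp only [tri, cv, map_sum, map_mul]

variable [IsAlgClosed k] [CharZero k] {c γ : Fin 4 → MvPolynomial (Fin 2) k}
  {u μ : MvPolynomial (Fin 2) k}

omit [IsAlgClosed k] [CharZero k] in
theorem c_eq (hc : c 0 = μ * cr γ 0 ∧ c 1 = μ * cr γ 1 ∧ c 2 = μ * cr γ 2) :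
    c = μ • Yv (cr γ) + c 3 • e3 := by
  obtain ⟨h0, h1, h2⟩ := hc
  ext1 a
  fin_cases a
  · change c 0 = μ * cr γ 0 + c 3 * (Pi.single 3 1 : Fin 4 → MvPolynomial (Fin 2) k) 0
    rw [h0]; simp
  · change c 1 = μ * cr γ 1 + c 3 * (Pi.single 3 1 : Fin 4 → MvPolynomial (Fin 2) k) 1
    rw [h1]; simp
  · change c 2 = μ * cr γ 2 + c 3 * (Pi.single 3 1 : Fin 4 → MvPolynomial (Fin 2) k) 2
    rw [h2]; simp
  · change c 3 = μ * 0 + c 3 * (Pi.single 3 1 : Fin 4 → MvPolynomial (Fin 2) k) 3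
    simp

omit [IsAlgClosed k] [CharZero k] in
theorem tri_c (D : Dat τ c γ u 3) (hc : c 0 = μ * cr γ 0 ∧ c 1 = μ * cr γ 1 ∧ c 2 = μ * cr γ 2)
    (z : Fin 4 → MvPolynomial (Fin 2) k) :
    tri τ c c z = μ ^ 2 * tri τ (Yv (cr γ)) (Yv (cr γ)) z + 2 * μ * c 3 * tri τ (Yv (cr γ)) e3 z +
      c 3 ^ 2 * tri τ e3 e3 z := by
  conv_lhs => rw [c_eq hc]
  exact tri_expand D.symm₁ _ _ _ _ _

theorem tau333 (D : Dat τ c γ u 3) (h3 : γ 3 = 0) (hμ : μ.IsHomogeneous 1)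
    (hc : c 0 = μ * cr γ 0 ∧ c 1 = μ * cr γ 1 ∧ c 2 = μ * cr γ 2) : τ 3 3 3 = 0 := by
  have h := tri_c D hc e3
  have h1 : tri τ c c e3 = 0 := by
    have := D.eqn 3
    rw [h3, mul_zero] at this
    exact this
  rw [h1] at h
  obtain ⟨Q, hQ, hQμ⟩ := exists_zero hμ
  have h4 := congrArg (eval Q) h
  have h5 : tri τ e3 e3 e3 = C (τ 3 3 3) := tri_single τ 3 3 3
  rw [h5] at h4
  simp only [map_add, map_mul, map_pow, hQμ, map_zero, eval_C, map_ofNat] at h4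
  have h6 : eval Q (c 3) ≠ 0 := by
    intro hcon
    obtain ⟨a, ha⟩ := D.emb.nz hQ
    apply ha
    fin_cases a
    · change eval Q (c 0) = 0
      rw [hc.1, map_mul, hQμ, zero_mul]
    · change eval Q (c 1) = 0
      rw [hc.2.1, map_mul, hQμ, zero_mul]
    · change eval Q (c 2) = 0
      rw [hc.2.2, map_mul, hQμ, zero_mul]
    · exact hcon
  have h7 : eval Q (c 3) ^ 2 * τ 3 3 3 = 0 := by linear_combination -h4
  exact (mul_eq_zero.1 h7).resolve_left (pow_ne_zero 2 h6)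

theorem rel (D : Dat τ c γ u 3) (h3 : γ 3 = 0) (hμ : μ.IsHomogeneous 1) (hμ0 : μ ≠ 0)
    (hc : c 0 = μ * cr γ 0 ∧ c 1 = μ * cr γ 1 ∧ c 2 = μ * cr γ 2) :
    μ * tri τ (Yv (cr γ)) (Yv (cr γ)) e3 + 2 * c 3 * tri τ (Yv (cr γ)) e3 e3 = 0 := by
  have h := tri_c D hc e3
  have h1 : tri τ c c e3 = 0 := by
    have := D.eqn 3
    rw [h3, mul_zero] at this
    exact this
  have h5 : tri τ e3 e3 e3 = 0 := by
    have := tri_single τ 3 3 3
    rw [tau333 D h3 hμ hc, map_zero] at this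
    exact this
  rw [h1, h5] at h
  apply mul_left_cancel₀ hμ0
  linear_combination -h

omit [IsAlgClosed k] in
theorem cross_cube {r : Fin 2 → k} {β : Fin 3 → k}
    (hβ : C (β 0) * γ 0 + C (β 1) * γ 1 + C (β 2) * γ 2 = lin r ^ 3) (i j : Fin 3) :
    lin r ^ 2 ∣ cr γ i * C (β j) - cr γ j * C (β i) := by
  have d0 : C (β 0) * pderiv 0 (γ 0) + C (β 1) * pderiv 0 (γ 1) + C (β 2) * pderiv 0 (γ 2) =
      lin r ^ 2 * (3 * pderiv 0 (lin r)) := by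
    have := congrArg (pderiv 0) hβ
    simp only [map_add, pderiv_C_mul, pderiv_pow, smul_eq_C_mul] at this
    rw [this]
    push_cast
    ring
  have d1 : C (β 0) * pderiv 1 (γ 0) + C (β 1) * pderiv 1 (γ 1) + C (β 2) * pderiv 1 (γ 2) =
      lin r ^ 2 * (3 * pderiv 1 (lin r)) := by
    have := congrArg (pderiv 1) hβ
    simp only [map_add, pderiv_C_mul, pderiv_pow, smul_eq_C_mul] at this
    rw [this]
    push_cast
    ring
  have p01 : cr γ 0 * C (β 1) - cr γ 1 * C (β 0) =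
      lin r ^ 2 * (3 * pderiv 0 (lin r) * pderiv 1 (γ 2) - 3 * pderiv 1 (lin r) * pderiv 0 (γ 2)) := by
    simp only [cr, Matrix.cons_val_one, Matrix.cons_val_zero]
    linear_combination (pderiv 1 (γ 2)) * d0 - (pderiv 0 (γ 2)) * d1
  have p12 : cr γ 1 * C (β 2) - cr γ 2 * C (β 1) =
      lin r ^ 2 * (3 * pderiv 0 (lin r) * pderiv 1 (γ 0) - 3 * pderiv 1 (lin r) * pderiv 0 (γ 0)) := by
    simp only [cr, Matrix.cons_val]
    linear_combination (pderiv 1 (γ 0)) * d0 - (pderiv 0 (γ 0)) * d1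
  have p02 : cr γ 0 * C (β 2) - cr γ 2 * C (β 0) =
      lin r ^ 2 * (3 * pderiv 1 (lin r) * pderiv 0 (γ 1) - 3 * pderiv 0 (lin r) * pderiv 1 (γ 1)) := by
    simp only [cr, Matrix.cons_val]
    linear_combination (pderiv 0 (γ 1)) * d1 - (pderiv 1 (γ 1)) * d0
  have neg : ∀ i j : Fin 3, lin r ^ 2 ∣ cr γ i * C (β j) - cr γ j * C (β i) →
      lin r ^ 2 ∣ cr γ j * C (β i) - cr γ i * C (β j) := by
    intro i j h
    have := (dvd_neg (α := MvPolynomial (Fin 2) k)).2 h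
    rwa [neg_sub] at this
  have q01 : lin r ^ 2 ∣ cr γ 0 * C (β 1) - cr γ 1 * C (β 0) := ⟨_, p01⟩
  have q12 : lin r ^ 2 ∣ cr γ 1 * C (β 2) - cr γ 2 * C (β 1) := ⟨_, p12⟩
  have q02 : lin r ^ 2 ∣ cr γ 0 * C (β 2) - cr γ 2 * C (β 0) := ⟨_, p02⟩
  fin_cases i <;> fin_cases j
  · exact (sub_self (cr γ 0 * C (β 0))).symm ▸ dvd_zero _
  · exact q01
  · exact q02
  · exact neg _ _ q01
  · exact (sub_self (cr γ 1 * C (β 1))).symm ▸ dvd_zero _
  · exact q12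
  · exact neg _ _ q02
  · exact neg _ _ q12
  · exact (sub_self (cr γ 2 * C (β 2))).symm ▸ dvd_zero _

/-- At a cube, the vector `y` is congruent to a multiple of a constant vector. -/
theorem exists_eta (hy : ∀ P : Fin 2 → k, P ≠ 0 → ∃ a, eval P (cr γ a) ≠ 0) {r : Fin 2 → k} (hr : r ≠ 0)
    {β : Fin 3 → k} (hβ : C (β 0) * γ 0 + C (β 1) * γ 1 + C (β 2) * γ 2 = lin r ^ 3) :
    ∃ η : MvPolynomial (Fin 2) k, eval r η ≠ 0 ∧ ∀ i, lin r ^ 2 ∣ cr γ i - η * C (β i) := by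
  obtain ⟨j, hj⟩ : ∃ j, β j ≠ 0 := by
    by_contra hcon
    push Not at hcon
    rw [hcon 0, hcon 1, hcon 2, map_zero] at hβ
    have : lin r ^ 3 = 0 := by rw [← hβ]; ring
    exact pow_ne_zero 3 (lin_ne_zero hr) this
  have hdvd : ∀ i, lin r ^ 2 ∣ cr γ i - C (β j)⁻¹ * cr γ j * C (β i) := by
    intro i
    obtain ⟨t, ht⟩ := cross_cube hβ i j
    have hC : (C (β j)⁻¹ : MvPolynomial (Fin 2) k) * C (β j) = 1 := by
      rw [← map_mul, inv_mul_cancel₀ hj, map_one]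
    exact ⟨C (β j)⁻¹ * t, by linear_combination (C (β j)⁻¹) * ht - (cr γ i) * hC⟩
  refine ⟨C (β j)⁻¹ * cr γ j, ?_, hdvd⟩
  intro h
  obtain ⟨i, hi⟩ := hy r hr
  obtain ⟨t, ht⟩ := hdvd i
  have := congrArg (eval r) ht
  simp only [map_sub, map_mul, map_pow, eval_lin_self] at this
  rw [map_mul] at h
  apply hi
  linear_combination this + (eval r (C (β i))) * h

theorem sq_dvd_A2 (D : Dat τ c γ u 3) (h3 : γ 3 = 0) (hμ : μ.IsHomogeneous 1) (hμ0 : μ ≠ 0)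
    (hc : c 0 = μ * cr γ 0 ∧ c 1 = μ * cr γ 1 ∧ c 2 = μ * cr γ 2)
    (hy : ∀ P : Fin 2 → k, P ≠ 0 → ∃ a, eval P (cr γ a) ≠ 0) {r : Fin 2 → k} (hr : r ≠ 0)
    {β : Fin 3 → k} (hβ : C (β 0) * γ 0 + C (β 1) * γ 1 + C (β 2) * γ 2 = lin r ^ 3) :
    lin r ^ 2 ∣ tri τ (Yv (cr γ)) e3 e3 := by
  obtain ⟨η, hη, hηβ⟩ := exists_eta hy hr hβ
  choose R hR using hηβ
  set w : Fin 4 → k := ![β 0, β 1, β 2, 0] with hw
  have hcv : Yv (fun i => C (β i)) = cv w := by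
    ext1 a
    fin_cases a
    · rfl
    · rfl
    · rfl
    · exact (map_zero C).symm
  have he3 : (e3 : Fin 4 → MvPolynomial (Fin 2) k) = cv (Pi.single 3 1) := by
    ext1 a
    fin_cases a <;> simp [e3, cv]
  have hYeq : Yv (cr γ) = η • cv w + lin r ^ 2 • Yv R := by
    rw [← hcv, ← Yv_smul, ← Yv_smul, ← Yv_add]
    congr 1
    ext1 i
    have := hR i
    change cr γ i = η * C (β i) + lin r ^ 2 * R i
    linear_combination this
  obtain ⟨κ1, hκ1⟩ := tri_const (τ := τ) w w (Pi.single 3 1)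
  obtain ⟨κ2, hκ2⟩ := tri_const (τ := τ) w (Pi.single 3 1) (Pi.single 3 1)
  rw [← he3] at hκ1 hκ2
  have hA2 : tri τ (Yv (cr γ)) e3 e3 = η * C κ2 + lin r ^ 2 * tri τ (Yv R) e3 e3 := by
    rw [hYeq, tri_add₁, tri_smul₁, tri_smul₁, hκ2]
  have hA1 : tri τ (Yv (cr γ)) (Yv (cr γ)) e3 = η ^ 2 * C κ1 + lin r ^ 2 *
      (2 * η * tri τ (cv w) (Yv R) e3 + lin r ^ 2 * tri τ (Yv R) (Yv R) e3) := by
    rw [hYeq, tri_expand D.symm₁, hκ1]
    ring
  have hrel := rel D h3 hμ hμ0 hc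
  rw [hA1, hA2] at hrel
  have hndvd : ¬ lin r ∣ η := by
    rintro ⟨t, rfl⟩
    apply hη
    rw [map_mul, eval_lin_self, zero_mul]
  have hdvd : lin r ^ 2 ∣ η * (μ * η * C κ1 + 2 * C κ2 * c 3) := by
    refine ⟨-(μ * (2 * η * tri τ (cv w) (Yv R) e3 + lin r ^ 2 * tri τ (Yv R) (Yv R) e3) +
      2 * c 3 * tri τ (Yv R) e3 e3), ?_⟩
    linear_combination hrel
  have hdvd2 := (prime_lin hr).pow_dvd_of_dvd_mul_left 2 hndvd hdvd
  by_cases hκ : κ2 = 0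
  · rw [hA2, hκ, map_zero, mul_zero, zero_add]
    exact dvd_mul_right _ _
  · exfalso
    obtain ⟨t, ht⟩ := hdvd2
    have h2 : (2 : k) ≠ 0 := by exact_mod_cast (by norm_num : (2 : ℕ) ≠ 0)
    have hinv : (C ((2 * κ2)⁻¹) : MvPolynomial (Fin 2) k) * (2 * C κ2) = 1 := by
      have : (2 * C κ2 : MvPolynomial (Fin 2) k) = C (2 * κ2) := by rw [map_mul, map_ofNat]
      rw [this, ← map_mul, inv_mul_cancel₀ (mul_ne_zero h2 hκ), map_one]
    refine D.emb.tan r hr (μ * η) ![β 0, β 1, β 2, -((2 * κ2)⁻¹ * κ1)] fun a => ?_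
    have hlow : ∀ i, lin r ^ 2 ∣ μ * cr γ i - μ * η * C (β i) := fun i => by
      refine ⟨μ * R i, ?_⟩
      linear_combination μ * hR i
    fin_cases a
    · change lin r ^ 2 ∣ c 0 - μ * η * C (β 0)
      rw [hc.1]; exact hlow 0
    · change lin r ^ 2 ∣ c 1 - μ * η * C (β 1)
      rw [hc.2.1]; exact hlow 1
    · change lin r ^ 2 ∣ c 2 - μ * η * C (β 2)
      rw [hc.2.2]; exact hlow 2
    · change lin r ^ 2 ∣ c 3 - μ * η * C (-((2 * κ2)⁻¹ * κ1))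
      refine ⟨C ((2 * κ2)⁻¹) * t, ?_⟩
      rw [map_neg, map_mul]
      linear_combination (C ((2 * κ2)⁻¹)) * ht - (c 3) * hinv

/-- Pairwise nonproportional linear forms do not divide each other. -/
theorem not_lin_dvd {p q : Fin 2 → k} (h : p 1 * q 0 - p 0 * q 1 ≠ 0) : ¬ lin q ∣ lin p := by
  rintro ⟨t, ht⟩
  have := congrArg (eval q) ht
  rw [map_mul, eval_lin_self, zero_mul, eval_lin] at this
  exact h this

theorem eq_zero_of_three_squares {A : MvPolynomial (Fin 2) k} (hA : A.IsHomogeneous 4) {r : Fin 3 → Fin 2 → k}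
    (hr0 : ∀ i, r i ≠ 0) (hr : ∀ i j, i ≠ j → r i 1 * r j 0 - r i 0 * r j 1 ≠ 0) (h : ∀ i, lin (r i) ^ 2 ∣ A) :
    A = 0 := by
  obtain ⟨B0, hB0⟩ := h 0
  have hl : ∀ i, (lin (r i) ^ 2).IsHomogeneous 2 := fun i => by simpa using (isHomogeneous_lin (r i)).pow 2
  have hl0 : ∀ i, lin (r i) ^ 2 ≠ 0 := fun i => pow_ne_zero 2 (lin_ne_zero (hr0 i))
  have h1 : B0.IsHomogeneous 2 := hom_of_mul' (hl 0) (hl0 0) (by rw [← hB0]; exact hA) rfl
  have hnd : ∀ i j, i ≠ j → ¬ lin (r i) ∣ lin (r j) ^ 2 := fun i j hij hd =>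
    not_lin_dvd (hr j i hij.symm) ((prime_lin (hr0 i)).dvd_of_dvd_pow hd)
  obtain ⟨B1, hB1⟩ : lin (r 1) ^ 2 ∣ B0 := by
    refine (prime_lin (hr0 1)).pow_dvd_of_dvd_mul_left 2 (hnd 1 0 (by decide)) ?_
    rw [← hB0]
    exact h 1
  have h2 : B1.IsHomogeneous 0 := hom_of_mul' (hl 1) (hl0 1) (by rw [← hB1]; exact h1) rfl
  obtain ⟨B2, hB2⟩ : lin (r 2) ^ 2 ∣ B1 := by
    refine (prime_lin (hr0 2)).pow_dvd_of_dvd_mul_left 2 (hnd 2 1 (by decide)) ?_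
    refine (prime_lin (hr0 2)).pow_dvd_of_dvd_mul_left 2 (hnd 2 0 (by decide)) ?_
    rw [← hB1, ← hB0]
    exact h 2
  have h4 : B2 = 0 := eq_zero_of_mul_lt (hl 2) (hl0 2) (by rw [← hB2]; exact h2) (by norm_num)
  rw [hB0, hB1, hB2, h4]
  ring

theorem A2_eq_zero (D : Dat τ c γ u 3) (h3 : γ 3 = 0) (hli : LinearIndependent k ![γ 0, γ 1, γ 2])
    (hμ : μ.IsHomogeneous 1) (hμ0 : μ ≠ 0)
    (hc : c 0 = μ * cr γ 0 ∧ c 1 = μ * cr γ 1 ∧ c 2 = μ * cr γ 2)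
    (hy : ∀ P : Fin 2 → k, P ≠ 0 → ∃ a, eval P (cr γ a) ≠ 0) (hy4 : ∀ a, (cr γ a).IsHomogeneous 4) :
    tri τ (Yv (cr γ)) e3 e3 = 0 := by
  obtain ⟨r, hr0, hr, hβ⟩ := exists_cubes D.homγ hli hy
  refine eq_zero_of_three_squares ?_ hr0 hr fun i => ?_
  · have := isHomogeneous_tri τ (hom_Yv hy4) (hom_single 3) (hom_single 3)
    exact this
  · obtain ⟨β, hβi⟩ := hβ i
    exact sq_dvd_A2 D h3 hμ hμ0 hc hy (hr0 i) hβi

omit [IsAlgClosed k] [CharZero k] in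
theorem li_cr (D : Dat τ c γ u 3) (hc : c 0 = μ * cr γ 0 ∧ c 1 = μ * cr γ 1 ∧ c 2 = μ * cr γ 2)
    {x : Fin 3 → k} (h : cr γ 0 * C (x 0) + cr γ 1 * C (x 1) + cr γ 2 * C (x 2) = 0) (i : Fin 3) : x i = 0 := by
  have h1 := Fintype.linearIndependent_iff.1 D.li ![x 0, x 1, x 2, 0] (by
    rw [Fin.sum_univ_four]
    simp only [smul_eq_C_mul]
    change C (x 0) * c 0 + C (x 1) * c 1 + C (x 2) * c 2 + C 0 * c 3 = 0
    rw [hc.1, hc.2.1, hc.2.2, map_zero]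
    linear_combination μ * h)
  fin_cases i
  exacts [h1 0, h1 1, h1 2]

theorem tau_b33 (D : Dat τ c γ u 3) (h3 : γ 3 = 0) (hli : LinearIndependent k ![γ 0, γ 1, γ 2])
    (hμ : μ.IsHomogeneous 1) (hμ0 : μ ≠ 0)
    (hc : c 0 = μ * cr γ 0 ∧ c 1 = μ * cr γ 1 ∧ c 2 = μ * cr γ 2)
    (hy : ∀ P : Fin 2 → k, P ≠ 0 → ∃ a, eval P (cr γ a) ≠ 0) (hy4 : ∀ a, (cr γ a).IsHomogeneous 4) (b : Fin 4) :
    τ b 3 3 = 0 := by
  have h := A2_eq_zero D h3 hli hμ hμ0 hc hy hy4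
  have h1 : tri τ (Yv (cr γ)) e3 e3 = _ := tri_Yv₁ (cr γ) 3 3
  rw [h1] at h
  have h2 := li_cr D hc (x := ![τ 0 3 3, τ 1 3 3, τ 2 3 3]) h
  fin_cases b
  · exact h2 0
  · exact h2 1
  · exact h2 2
  · exact tau333 D h3 hμ hc

end K373.CaseIId
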