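import Groth.Agent.Fano.K373.CaseIId

/-!
# Degenerate rational quintics with planar Gauss map: proportionality
-/

set_option autoImplicit false

namespace K373.CaseIIe

open MvPolynomial K713.BinFactor K496.BinAlg K496.QuintDat K373.CaseIIa K373.CaseIId

variable {k : Type*} [Field k]

theorem perp_cross {z : Fin 4 → MvPolynomial (Fin 2) k} {v : Fin 3 → MvPolynomial (Fin 2) k}
    (h : ∀ i, v 0 * pderiv i (z 0) + v 1 * pderiv i (z 1) + v 2 * pderiv i (z 2) = 0) (i j : Fin 3) :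
    v i * cr z j = v j * cr z i := by
  have o0 := h 0
  have o1 := h 1
  have e01 : v 0 * cr z 1 = v 1 * cr z 0 := by
    simp only [cr, Matrix.cons_val]
    linear_combination (pderiv 0 (z 2)) * o1 - (pderiv 1 (z 2)) * o0
  have e12 : v 1 * cr z 2 = v 2 * cr z 1 := by
    simp only [cr, Matrix.cons_val]
    linear_combination (pderiv 0 (z 0)) * o1 - (pderiv 1 (z 0)) * o0
  have e02 : v 0 * cr z 2 = v 2 * cr z 0 := by
    simp only [cr, Matrix.cons_val]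
    linear_combination (pderiv 1 (z 1)) * o0 - (pderiv 0 (z 1)) * o1
  fin_cases i <;> fin_cases j
  · rfl
  · exact e01
  · exact e02
  · exact e01.symm
  · rfl
  · exact e12
  · exact e02.symm
  · exact e12.symm
  · rfl

theorem perp_prop {z : Fin 4 → MvPolynomial (Fin 2) k} (hz : ∀ j, cr z j ≠ 0)
    {v g : Fin 3 → MvPolynomial (Fin 2) k}
    (hv : ∀ i, v 0 * pderiv i (z 0) + v 1 * pderiv i (z 1) + v 2 * pderiv i (z 2) = 0)
    (hg : ∀ i, g 0 * pderiv i (z 0) + g 1 * pderiv i (z 1) + g 2 * pderiv i (z 2) = 0) (i j : Fin 3) :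
    v i * g j = v j * g i := by
  apply mul_left_cancel₀ (hz j)
  linear_combination (g j) * perp_cross hv i j - (v j) * perp_cross hg i j

/-- `γ` has no common zeros if its dual has none. -/
theorem gamma_nz [CharZero k] {γ : Fin 4 → MvPolynomial (Fin 2) k} (hγ : ∀ a, (γ a).IsHomogeneous 3)
    (hy : ∀ P : Fin 2 → k, P ≠ 0 → ∃ a, eval P (cr γ a) ≠ 0) (P : Fin 2 → k) (hP : P ≠ 0) :
    ∃ i, eval P (![γ 0, γ 1, γ 2] i) ≠ 0 := by
  by_contra hcon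
  push Not at hcon
  have g0 : eval P (γ 0) = 0 := hcon 0
  have g1 : eval P (γ 1) = 0 := hcon 1
  have g2 : eval P (γ 2) = 0 := hcon 2
  have eu : ∀ a, eval P (γ a) = 0 → P 0 * eval P (pderiv 0 (γ a)) + P 1 * eval P (pderiv 1 (γ a)) = 0 := by
    intro a ha
    have := congrArg (eval P) (euler (hγ a))
    simp only [map_add, map_mul, eval_X, ha, mul_zero] at this
    exact this
  have e0 := eu 0 g0
  have e1 := eu 1 g1
  have e2 := eu 2 g2
  have ev0 : eval P (cr γ 0) = eval P (pderiv 0 (γ 1)) * eval P (pderiv 1 (γ 2)) -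
      eval P (pderiv 0 (γ 2)) * eval P (pderiv 1 (γ 1)) := by
    rw [← map_mul, ← map_mul, ← map_sub]; rfl
  have ev1 : eval P (cr γ 1) = eval P (pderiv 0 (γ 2)) * eval P (pderiv 1 (γ 0)) -
      eval P (pderiv 0 (γ 0)) * eval P (pderiv 1 (γ 2)) := by
    rw [← map_mul, ← map_mul, ← map_sub]; rfl
  have ev2 : eval P (cr γ 2) = eval P (pderiv 0 (γ 0)) * eval P (pderiv 1 (γ 1)) -
      eval P (pderiv 0 (γ 1)) * eval P (pderiv 1 (γ 0)) := by
    rw [← map_mul, ← map_mul, ← map_sub]; rfl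
  have hPi : P 0 ≠ 0 ∨ P 1 ≠ 0 := by
    by_contra h
    push Not at h
    apply hP
    ext i
    fin_cases i
    exacts [h.1, h.2]
  have hall : ∀ a, P 0 * eval P (cr γ a) = 0 ∧ P 1 * eval P (cr γ a) = 0 := by
    intro a
    fin_cases a
    · change P 0 * eval P (cr γ 0) = 0 ∧ P 1 * eval P (cr γ 0) = 0
      rw [ev0]
      constructor
      · linear_combination (eval P (pderiv 1 (γ 2))) * e1 - (eval P (pderiv 1 (γ 1))) * e2
      · linear_combination (eval P (pderiv 0 (γ 1))) * e2 - (eval P (pderiv 0 (γ 2))) * e1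
    · change P 0 * eval P (cr γ 1) = 0 ∧ P 1 * eval P (cr γ 1) = 0
      rw [ev1]
      constructor
      · linear_combination (eval P (pderiv 1 (γ 0))) * e2 - (eval P (pderiv 1 (γ 2))) * e0
      · linear_combination (eval P (pderiv 0 (γ 2))) * e0 - (eval P (pderiv 0 (γ 0))) * e2
    · change P 0 * eval P (cr γ 2) = 0 ∧ P 1 * eval P (cr γ 2) = 0
      rw [ev2]
      constructor
      · linear_combination (eval P (pderiv 1 (γ 1))) * e0 - (eval P (pderiv 1 (γ 0))) * e1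
      · linear_combination (eval P (pderiv 0 (γ 0))) * e1 - (eval P (pderiv 0 (γ 1))) * e0
  obtain ⟨a, ha⟩ := hy P hP
  rcases hPi with h | h
  · exact ha ((mul_eq_zero.1 (hall a).1).resolve_left h)
  · exact ha ((mul_eq_zero.1 (hall a).2).resolve_left h)

variable {τ : Fin 4 → Fin 4 → Fin 4 → k} {c γ : Fin 4 → MvPolynomial (Fin 2) k} {u μ : MvPolynomial (Fin 2) k}

theorem dd_Yv (i : Fin 2) (y : Fin 3 → MvPolynomial (Fin 2) k) :
    dd i (Yv y) = Yv (fun a => pderiv i (y a)) := by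
  ext1 a
  fin_cases a
  · rfl
  · rfl
  · rfl
  · exact map_zero (pderiv i)

theorem dd_e3 (i : Fin 2) : dd i (e3 : Fin 4 → MvPolynomial (Fin 2) k) = 0 := by
  ext1 a
  fin_cases a <;> simp [dd, e3]

theorem dd_single (i : Fin 2) (b : Fin 4) : dd i (Pi.single b 1 : Fin 4 → MvPolynomial (Fin 2) k) = 0 := by
  ext1 a
  by_cases h : a = b
  · subst h
    simp [dd]
  · simp [dd, Pi.single_eq_of_ne h]

variable [IsAlgClosed k] [CharZero k]

theorem e3e3 (D : Dat τ c γ u 3) (h3 : γ 3 = 0) (hli : LinearIndependent k ![γ 0, γ 1, γ 2])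
    (hμ : μ.IsHomogeneous 1) (hμ0 : μ ≠ 0)
    (hc : c 0 = μ * cr γ 0 ∧ c 1 = μ * cr γ 1 ∧ c 2 = μ * cr γ 2)
    (hy : ∀ P : Fin 2 → k, P ≠ 0 → ∃ a, eval P (cr γ a) ≠ 0) (hy4 : ∀ a, (cr γ a).IsHomogeneous 4) (b : Fin 4) :
    tri τ e3 e3 (Pi.single b 1) = 0 := by
  have h : tri τ e3 e3 (Pi.single b 1) = C (τ 3 3 b) := tri_single τ 3 3 b
  rw [h, D.symm₂, D.symm₁, tau_b33 D h3 hli hμ hμ0 hc hy hy4 b, map_zero]

theorem A1_eq_zero (D : Dat τ c γ u 3) (h3 : γ 3 = 0) (hli : LinearIndependent k ![γ 0, γ 1, γ 2])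
    (hμ : μ.IsHomogeneous 1) (hμ0 : μ ≠ 0)
    (hc : c 0 = μ * cr γ 0 ∧ c 1 = μ * cr γ 1 ∧ c 2 = μ * cr γ 2)
    (hy : ∀ P : Fin 2 → k, P ≠ 0 → ∃ a, eval P (cr γ a) ≠ 0) (hy4 : ∀ a, (cr γ a).IsHomogeneous 4) :
    tri τ (Yv (cr γ)) (Yv (cr γ)) e3 = 0 := by
  have h := rel D h3 hμ hμ0 hc
  rw [A2_eq_zero D h3 hli hμ hμ0 hc hy hy4, mul_zero, add_zero] at h
  exact (mul_eq_zero.1 h).resolve_left hμ0

theorem YYY_eq_zero (D : Dat τ c γ u 3) (h3 : γ 3 = 0) (hli : LinearIndependent k ![γ 0, γ 1, γ 2])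
    (hμ : μ.IsHomogeneous 1) (hμ0 : μ ≠ 0)
    (hc : c 0 = μ * cr γ 0 ∧ c 1 = μ * cr γ 1 ∧ c 2 = μ * cr γ 2)
    (hy : ∀ P : Fin 2 → k, P ≠ 0 → ∃ a, eval P (cr γ a) ≠ 0) (hy4 : ∀ a, (cr γ a).IsHomogeneous 4) :
    tri τ (Yv (cr γ)) (Yv (cr γ)) (Yv (cr γ)) = 0 := by
  have h1 : tri τ c c e3 = 0 := by
    have := D.eqn 3
    rw [h3, mul_zero] at this
    exact this
  have h2 : tri τ c c (Yv (cr γ)) = 0 := by
    have h := D.van
    have h' : tri τ c c c = tri τ c c (μ • Yv (cr γ) + c 3 • e3) := congrArg (tri τ c c) (c_eq hc)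
    rw [h', tri_add₃, tri_smul₃, tri_smul₃, h1, mul_zero, add_zero] at h
    exact (mul_eq_zero.1 h).resolve_left hμ0
  rw [tri_c D hc] at h2
  have h4 : tri τ (Yv (cr γ)) e3 (Yv (cr γ)) = 0 := by
    rw [tri_swap₂ _ _ _ D.symm₂]
    exact A1_eq_zero D h3 hli hμ hμ0 hc hy hy4
  have h5 : tri τ e3 e3 (Yv (cr γ)) = 0 := by
    rw [tri_Yv₃, e3e3 D h3 hli hμ hμ0 hc hy hy4, e3e3 D h3 hli hμ hμ0 hc hy hy4, e3e3 D h3 hli hμ hμ0 hc hy hy4]
    ring
  rw [h4, h5, mul_zero, mul_zero, add_zero, add_zero] at h2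
  exact (mul_eq_zero.1 h2).resolve_left (pow_ne_zero 2 hμ0)

omit [IsAlgClosed k] [CharZero k] in
theorem orth_gamma (D : Dat τ c γ u 3) (h3 : γ 3 = 0) [CharZero k] (hμ0 : μ ≠ 0)
    (hc : c 0 = μ * cr γ 0 ∧ c 1 = μ * cr γ 1 ∧ c 2 = μ * cr γ 2) (i : Fin 2) :
    γ 0 * pderiv i (cr γ 0) + γ 1 * pderiv i (cr γ 1) + γ 2 * pderiv i (cr γ 2) = 0 := by
  have h1 := orth D h3 i
  have h2 := orth' D h3
  rw [hc.1, hc.2.1, hc.2.2] at h1 h2
  have h1' : cr γ 0 * pderiv i (γ 0) + cr γ 1 * pderiv i (γ 1) + cr γ 2 * pderiv i (γ 2) = 0 := by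
    apply mul_left_cancel₀ hμ0
    linear_combination h1
  have h2' : cr γ 0 * γ 0 + cr γ 1 * γ 1 + cr γ 2 * γ 2 = 0 := by
    apply mul_left_cancel₀ hμ0
    linear_combination h2
  have h4 := congrArg (pderiv i) h2'
  simp only [map_add, pderiv_mul, map_zero] at h4
  linear_combination h4 - h1'

theorem li_Yv (D : Dat τ c γ u 3) (hc : c 0 = μ * cr γ 0 ∧ c 1 = μ * cr γ 1 ∧ c 2 = μ * cr γ 2) :
    LinearIndependent k ![Yv (cr γ) 0, Yv (cr γ) 1, Yv (cr γ) 2] := by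
  rw [Fintype.linearIndependent_iff]
  intro x hx
  rw [Fin.sum_univ_three] at hx
  simp only [smul_eq_C_mul] at hx
  refine li_cr D hc ?_
  have hx' : C (x 0) * cr γ 0 + C (x 1) * cr γ 1 + C (x 2) * cr γ 2 = 0 := hx
  linear_combination hx'

theorem cr_Yv_ne_zero (D : Dat τ c γ u 3) (hc : c 0 = μ * cr γ 0 ∧ c 1 = μ * cr γ 1 ∧ c 2 = μ * cr γ 2)
    (hy4 : ∀ a, (cr γ a).IsHomogeneous 4) (j : Fin 3) : cr (Yv (cr γ)) j ≠ 0 :=
  cr_ne_zero (li_Yv D hc) (hom_Yv (n := 3 + 1) hy4) j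

/-- `T(Y, Z, e_a)` is a multiple of `γ` if it is orthogonal to the derivatives of `Y`. -/
theorem exists_mul_gamma (D : Dat τ c γ u 3) (h3 : γ 3 = 0) (hμ0 : μ ≠ 0)
    (hc : c 0 = μ * cr γ 0 ∧ c 1 = μ * cr γ 1 ∧ c 2 = μ * cr γ 2)
    (hy : ∀ P : Fin 2 → k, P ≠ 0 → ∃ a, eval P (cr γ a) ≠ 0) (hy4 : ∀ a, (cr γ a).IsHomogeneous 4)
    {x z : Fin 4 → MvPolynomial (Fin 2) k} {p q n : ℕ} (hx : ∀ a, (x a).IsHomogeneous p)
    (hz : ∀ a, (z a).IsHomogeneous q) (hn : p + q = 3 + n) (hxz3 : tri τ x z (Pi.single 3 1) = 0)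
    (horth : ∀ i, tri τ x z (Yv fun a => pderiv i (cr γ a)) = 0) :
    (∀ a, tri τ x z (Pi.single a 1) = 0) ∨ ∃ g : MvPolynomial (Fin 2) k, g.IsHomogeneous n ∧ g ≠ 0 ∧
      ∀ a, tri τ x z (Pi.single a 1) = g * γ a := by
  have hhom : ∀ a, (tri τ x z (Pi.single a 1)).IsHomogeneous (p + q + 0) := fun a =>
    isHomogeneous_tri τ hx hz (hom_single a)
  have hperp : ∀ i j, ![tri τ x z (Pi.single 0 1), tri τ x z (Pi.single 1 1), tri τ x z (Pi.single 2 1)] i *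
      ![γ 0, γ 1, γ 2] j = ![tri τ x z (Pi.single 0 1), tri τ x z (Pi.single 1 1), tri τ x z (Pi.single 2 1)] j *
      ![γ 0, γ 1, γ 2] i := by
    refine perp_prop (cr_Yv_ne_zero D hc hy4) (fun i => ?_) (fun i => orth_gamma D h3 hμ0 hc i)
    have := horth i
    rw [tri_Yv₃] at this
    change tri τ x z (Pi.single 0 1) * pderiv i (cr γ 0) + tri τ x z (Pi.single 1 1) * pderiv i (cr γ 1) +
      tri τ x z (Pi.single 2 1) * pderiv i (cr γ 2) = 0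
    linear_combination this
  rcases exists_mul_of_prim (D := ![γ 0, γ 1, γ 2])
    (v := ![tri τ x z (Pi.single 0 1), tri τ x z (Pi.single 1 1), tri τ x z (Pi.single 2 1)]) (n := 3)
    (n' := p + q + 0) (fun i => by fin_cases i <;> exact D.homγ _) (fun i => by fin_cases i <;> exact hhom _) hperp
    (gamma_nz D.homγ hy) with h | ⟨e, g, he, hg, hg0, hgv⟩
  · left
    intro a
    fin_cases a
    exacts [h 0, h 1, h 2, hxz3]
  · right
    have : e = n := by omega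
    subst this
    refine ⟨g, hg, hg0, fun a => ?_⟩
    fin_cases a
    · exact hgv 0
    · exact hgv 1
    · exact hgv 2
    · change tri τ x z (Pi.single 3 1) = g * γ 3
      rw [h3, mul_zero]
      exact hxz3

theorem orth_beta (D : Dat τ c γ u 3) (h3 : γ 3 = 0) (hli : LinearIndependent k ![γ 0, γ 1, γ 2])
    (hμ : μ.IsHomogeneous 1) (hμ0 : μ ≠ 0)
    (hc : c 0 = μ * cr γ 0 ∧ c 1 = μ * cr γ 1 ∧ c 2 = μ * cr γ 2)
    (hy : ∀ P : Fin 2 → k, P ≠ 0 → ∃ a, eval P (cr γ a) ≠ 0) (hy4 : ∀ a, (cr γ a).IsHomogeneous 4) (i : Fin 2) :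
    tri τ (Yv (cr γ)) e3 (Yv fun a => pderiv i (cr γ a)) = 0 := by
  have h := congrArg (pderiv i) (A1_eq_zero D h3 hli hμ hμ0 hc hy hy4)
  rw [map_zero, pderiv_tri, dd_e3, tri_zero₃, add_zero, tri_swap₁ (dd i _) _ _ D.symm₁, dd_Yv] at h
  have h2 : (2 : MvPolynomial (Fin 2) k) ≠ 0 := by
    have : ((2 : ℕ) : MvPolynomial (Fin 2) k) ≠ 0 := by exact_mod_cast (by norm_num : (2 : ℕ) ≠ 0)
    exact_mod_cast this
  have h4 : (2 : MvPolynomial (Fin 2) k) * tri τ (Yv (cr γ)) (Yv fun a => pderiv i (cr γ a)) e3 = 0 := by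
    linear_combination h
  rw [tri_swap₂ _ _ _ D.symm₂]
  exact (mul_eq_zero.1 h4).resolve_left h2

theorem orth_delta (D : Dat τ c γ u 3) (h3 : γ 3 = 0) (hli : LinearIndependent k ![γ 0, γ 1, γ 2])
    (hμ : μ.IsHomogeneous 1) (hμ0 : μ ≠ 0)
    (hc : c 0 = μ * cr γ 0 ∧ c 1 = μ * cr γ 1 ∧ c 2 = μ * cr γ 2)
    (hy : ∀ P : Fin 2 → k, P ≠ 0 → ∃ a, eval P (cr γ a) ≠ 0) (hy4 : ∀ a, (cr γ a).IsHomogeneous 4) (i : Fin 2) :
    tri τ (Yv (cr γ)) (Yv (cr γ)) (Yv fun a => pderiv i (cr γ a)) = 0 := by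
  have h := congrArg (pderiv i) (YYY_eq_zero D h3 hli hμ hμ0 hc hy hy4)
  rw [map_zero, pderiv_tri, tri_swap₁ (dd i _) _ _ D.symm₁, tri_swap₂ _ (dd i _) _ D.symm₂, dd_Yv] at h
  have h2 : (3 : MvPolynomial (Fin 2) k) ≠ 0 := by
    have : ((3 : ℕ) : MvPolynomial (Fin 2) k) ≠ 0 := by exact_mod_cast (by norm_num : (3 : ℕ) ≠ 0)
    exact_mod_cast this
  have h4 : (3 : MvPolynomial (Fin 2) k) * tri τ (Yv (cr γ)) (Yv (cr γ)) (Yv fun a => pderiv i (cr γ a)) = 0 := by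
    linear_combination h
  exact (mul_eq_zero.1 h4).resolve_left h2

end K373.CaseIIe
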